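import Groth.Prelude.Def_Biext

/-!
# Automorphisms of biextensions are pairings
-/

set_option autoImplicit false

universe u

open CategoryTheory CategoryTheory.Limits Opposite

namespace Groth.Agent.BiextLib

variable {C : Type (u + 1)} [Category.{u} C] {J : GrothendieckTopology C}
  {P Q G : Sheaf J AddCommGrpCat.{u + 1}}

/-- An endomorphism of a biextension is translation by a natural pairing which vanishes when one of its
arguments does. -/
theorem exists_pairing (B : Biext J P Q G) (f : Biext.Hom J B B) :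
    ∃ g : ∀ T : C, P.obj.obj (op T) → Q.obj.obj (op T) → G.obj.obj (op T),
      (∀ {T T' : C} (h : T' ⟶ T) (p : P.obj.obj (op T)) (q : Q.obj.obj (op T)),
        g T' (P.obj.map h.op p) (Q.obj.map h.op q) = G.obj.map h.op (g T p q)) ∧
      (∀ (T : C) (x : B.E.obj.obj (op T)), f.map T x = B.act T (g T (B.πP T x) (B.πQ T x)) x) ∧
      (∀ (T : C) (p : P.obj.obj (op T)), g T p 0 = 0) ∧
      (∀ (T : C) (q : Q.obj.obj (op T)), g T 0 q = 0) := by
  have hd : ∀ (T : C) (x : B.E.obj.obj (op T)), ∃! a, B.act T a x = f.map T x := fun T x =>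
    B.existsUnique_act T x (f.map T x) (f.πP_map T x).symm (f.πQ_map T x).symm
  choose d hd₁ hd₂ using hd
  dsimp only at hd₁ hd₂
  have hdnat : ∀ {T T' : C} (h : T' ⟶ T) (x : B.E.obj.obj (op T)),
      d T' (B.E.obj.map h.op x) = G.obj.map h.op (d T x) := fun {T T'} h x => by
    refine (hd₂ T' _ _ ?_).symm
    show B.act T' _ _ = _
    rw [← B.act_map, hd₁, f.map_res]
  have hddep : ∀ (T : C) (x y : B.E.obj.obj (op T)), B.πP T x = B.πP T y → B.πQ T x = B.πQ T y →
      d T x = d T y := fun T x y h h' => by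
    obtain ⟨a, rfl, -⟩ := B.existsUnique_act T x y h h'
    refine hd₂ T _ _ ?_
    show B.act T (d T x) (B.act T a x) = f.map T (B.act T a x)
    rw [← B.add_act, add_comm, B.add_act, hd₁]
    exact (f.map_act T a x).symm
  have key : ∀ (T : C) (p : P.obj.obj (op T)) (q : Q.obj.obj (op T)), ∃! a : G.obj.obj (op T),
      ∀ (T' : C) (h : T' ⟶ T) (x : B.E.obj.obj (op T')), B.πP T' x = P.obj.map h.op p →
        B.πQ T' x = Q.obj.map h.op q → d T' x = G.obj.map h.op a := by
    intro T p q
    obtain ⟨R, hR, hlift⟩ := B.locallySurjective T p q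
    choose x hxP hxQ using hlift
    have hsheaf := (Biext.uSh J G).property.isSheafFor R hR
    let fam : Presieve.FamilyOfElements (Biext.uSh J G).obj R.arrows := fun T' h hh => d T' (x h hh)
    have hcomp : fam.Compatible := by
      intro Y₁ Y₂ Z g₁ g₂ f₁ f₂ h₁ h₂ e
      change G.obj.map g₁.op (d Y₁ (x f₁ h₁)) = G.obj.map g₂.op (d Y₂ (x f₂ h₂))
      rw [← hdnat, ← hdnat]
      refine hddep Z _ _ ?_ ?_
      · rw [B.πP_map, B.πP_map, hxP, hxP, ← Functor.map_comp_apply, ← Functor.map_comp_apply,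
          ← op_comp, ← op_comp, e]
      · rw [B.πQ_map, B.πQ_map, hxQ, hxQ, ← Functor.map_comp_apply, ← Functor.map_comp_apply,
          ← op_comp, ← op_comp, e]
    obtain ⟨a, ha, huniq⟩ := hsheaf fam hcomp
    refine ⟨a, fun T' h y hyP hyQ => ?_, fun a' ha' => huniq a' fun T' h hh => ?_⟩
    · have hsh := (Biext.uSh J G).property.isSheafFor (R.pullback h) (J.pullback_stable h hR)
      refine hsh.isSeparatedFor.ext fun Z k hk => ?_
      change G.obj.map k.op (d T' y) = G.obj.map k.op (G.obj.map h.op a)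
      have e := ha (k ≫ h) hk
      change G.obj.map (k ≫ h).op a = d Z (x (k ≫ h) hk) at e
      rw [← hdnat, ← Functor.map_comp_apply, ← op_comp, e]
      refine hddep Z _ _ ?_ ?_
      · rw [B.πP_map, hyP, hxP, ← Functor.map_comp_apply, ← op_comp]
      · rw [B.πQ_map, hyQ, hxQ, ← Functor.map_comp_apply, ← op_comp]
    · exact (ha' T' h (x h hh) (hxP h hh) (hxQ h hh)).symm
  choose g hg hguniq using key
  refine ⟨g, ?_, ?_, ?_, ?_⟩
  · intro T T' h p q
    refine (hguniq T' _ _ _ fun T'' k x hP hQ => ?_).symm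
    rw [← Functor.map_comp_apply, ← op_comp]
    exact hg T p q T'' (k ≫ h) x (by rw [hP, op_comp, Functor.map_comp_apply])
      (by rw [hQ, op_comp, Functor.map_comp_apply])
  · intro T x
    have := hg T (B.πP T x) (B.πQ T x) T (𝟙 T) x (by simp) (by simp)
    rw [op_id, G.obj.map_id] at this
    rw [← hd₁ T x, this]
    rfl
  · intro T p
    refine (hguniq T p 0 0 fun T' h x hP hQ => ?_).symm
    rw [map_zero] at hQ
    rw [map_zero]
    have hh : B.πP T' x = B.πP T' x := rfl
    have hsame : d T' (B.add₂ T' x x hh) = d T' x := hddep T' _ _ (B.πP_add₂ T' x x hh)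
      (by rw [B.πQ_add₂, hQ, add_zero])
    have hadd : d T' (B.add₂ T' x x hh) = d T' x + d T' x := by
      refine (hd₂ T' _ _ ?_).symm
      have e : ∀ (y z : B.E.obj.obj (op T')) (w : B.πP T' y = B.πP T' z),
          y = B.act T' (d T' x) x → z = B.act T' (d T' x) x →
          B.add₂ T' y z w = B.act T' (d T' x + d T' x) (B.add₂ T' x x hh) := by
        rintro y z w rfl rfl
        rw [B.add₂_act T' _ x _ (((B.πP_act T' _ x).symm.trans w)), B.add₂_comm,
          B.add₂_act T' _ x _ hh, B.add_act]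
      rw [f.map_add₂, e _ _ _ (hd₁ T' x).symm (hd₁ T' x).symm]
    exact left_eq_add.mp (hsame.symm.trans hadd)
  · intro T q
    refine (hguniq T 0 q 0 fun T' h x hP hQ => ?_).symm
    rw [map_zero] at hP
    rw [map_zero]
    have hh : B.πQ T' x = B.πQ T' x := rfl
    have hsame : d T' (B.add₁ T' x x hh) = d T' x := hddep T' _ _
      (by rw [B.πP_add₁, hP, add_zero]) (B.πQ_add₁ T' x x hh)
    have hadd : d T' (B.add₁ T' x x hh) = d T' x + d T' x := by
      refine (hd₂ T' _ _ ?_).symm
      have e : ∀ (y z : B.E.obj.obj (op T')) (w : B.πQ T' y = B.πQ T' z),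
          y = B.act T' (d T' x) x → z = B.act T' (d T' x) x →
          B.add₁ T' y z w = B.act T' (d T' x + d T' x) (B.add₁ T' x x hh) := by
        rintro y z w rfl rfl
        rw [B.add₁_act T' _ x _ (((B.πQ_act T' _ x).symm.trans w)), B.add₁_comm,
          B.add₁_act T' _ x _ hh, B.add_act]
      rw [f.map_add₁, e _ _ _ (hd₁ T' x).symm (hd₁ T' x).symm]
    exact left_eq_add.mp (hsame.symm.trans hadd)

end Groth.Agent.BiextLib
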