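import Mathlib.Algebra.Homology.ConcreteCategory
import Mathlib.Algebra.Homology.QuasiIso
import Mathlib.Algebra.Category.ModuleCat.Abelian
import Mathlib.Algebra.Category.ModuleCat.EpiMono
import Mathlib.Algebra.Homology.ShortComplex.ModuleCat

/-! Element criteria for maps on homology of `ℕ`-indexed chain complexes of modules. -/

universe v u

namespace Groth.Agent.BiextLib

open CategoryTheory Function

variable {R : Type u} [Ring R] (K L : ChainComplex (ModuleCat.{v} R) ℕ) (j : ℕ)

/-- The cycles in degree `j`. -/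
noncomputable def Z : Submodule R (K.X j) := LinearMap.ker (K.d j ((ComplexShape.down ℕ).next j)).hom

theorem mem_Z_succ {n : ℕ} (x : K.X (n + 1)) : x ∈ Z K (n + 1) ↔ (K.d (n + 1) n).hom x = 0 := by
  rw [Z, LinearMap.mem_ker, ChainComplex.next_nat_succ]

theorem mem_Z_zero (x : K.X 0) : x ∈ Z K 0 := by
  rw [Z, LinearMap.mem_ker, K.shape _ _ (by simp)]
  rfl

theorem d_mem_Z (w : K.X (j + 1)) : (K.d (j + 1) j).hom w ∈ Z K j := by
  rw [Z, LinearMap.mem_ker, ← LinearMap.comp_apply, ← ModuleCat.hom_comp, K.d_comp_d]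
  rfl

/-- The class of a cycle. -/
noncomputable def cls : Z K j →ₗ[R] K.homology j :=
  (K.liftCycles (ModuleCat.ofHom (Z K j).subtype) _ rfl
    (ModuleCat.hom_ext (LinearMap.ext fun x => x.2)) ≫ K.homologyπ j).hom

theorem iCycles_liftCycles (x : Z K j) :
    K.iCycles j (K.liftCycles (ModuleCat.ofHom (Z K j).subtype) _ rfl
      (ModuleCat.hom_ext (LinearMap.ext fun x => x.2)) x) = (x : K.X j) := by
  rw [← CategoryTheory.comp_apply, HomologicalComplex.liftCycles_i]
  rfl

theorem cls_surjective : Surjective (cls K j) := by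
  intro h
  obtain ⟨c, rfl⟩ := (ModuleCat.epi_iff_surjective (K.homologyπ j)).mp inferInstance h
  refine ⟨⟨K.iCycles j c, ?_⟩, congrArg (K.homologyπ j) ?_⟩
  · rw [Z, LinearMap.mem_ker]
    show K.d j _ (K.iCycles j c) = 0
    rw [← CategoryTheory.comp_apply, K.iCycles_d]
    rfl
  · exact (ModuleCat.mono_iff_injective (K.iCycles j)).mp inferInstance (iCycles_liftCycles K j _)

theorem cls_eq_zero_iff (x : Z K j) :
    cls K j x = 0 ↔ ∃ w, (K.d (j + 1) j).hom w = (x : K.X j) := by
  have hex := ShortComplex.exact_of_g_is_cokernel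
    (ShortComplex.mk (K.toCycles (j + 1) j) (K.homologyπ j) (K.toCycles_comp_homologyπ (j + 1) j))
    (K.homologyIsCokernel (j + 1) j (ChainComplex.prev ℕ j))
  rw [ShortComplex.moduleCat_exact_iff] at hex
  set c := K.liftCycles (ModuleCat.ofHom (Z K j).subtype) _ rfl
      (ModuleCat.hom_ext (LinearMap.ext fun x => x.2)) x
  constructor
  · intro h
    obtain ⟨w, hw⟩ := hex c h
    refine ⟨w, ?_⟩
    have e := congrArg (K.iCycles j) hw
    dsimp only at e
    rw [← CategoryTheory.comp_apply, HomologicalComplex.toCycles_i, iCycles_liftCycles K j] at e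
    exact e
  · rintro ⟨w, hw⟩
    have hc : c = K.toCycles (j + 1) j w := by
      apply (ModuleCat.mono_iff_injective (K.iCycles j)).mp inferInstance
      rw [iCycles_liftCycles K j, ← CategoryTheory.comp_apply, HomologicalComplex.toCycles_i]
      exact hw.symm
    show K.homologyπ j c = 0
    rw [hc, ← CategoryTheory.comp_apply, K.toCycles_comp_homologyπ]
    rfl

variable {K L}

theorem map_mem_Z (φ : K ⟶ L) {x : K.X j} (hx : x ∈ Z K j) : (φ.f j).hom x ∈ Z L j := by
  rw [Z, LinearMap.mem_ker] at hx ⊢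
  rw [← LinearMap.comp_apply, ← ModuleCat.hom_comp, φ.comm, ModuleCat.hom_comp, LinearMap.comp_apply, hx, map_zero]

theorem cls_map (φ : K ⟶ L) (x : Z K j) :
    HomologicalComplex.homologyMap φ j (cls K j x) = cls L j ⟨(φ.f j).hom x, map_mem_Z j φ x.2⟩ := by
  set c := K.liftCycles (ModuleCat.ofHom (Z K j).subtype) _ rfl
      (ModuleCat.hom_ext (LinearMap.ext fun x => x.2)) x
  show HomologicalComplex.homologyMap φ j (K.homologyπ j c) = L.homologyπ j _
  rw [← CategoryTheory.comp_apply, HomologicalComplex.homologyπ_naturality, CategoryTheory.comp_apply]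
  congr 1
  apply (ModuleCat.mono_iff_injective (L.iCycles j)).mp inferInstance
  rw [← CategoryTheory.comp_apply, HomologicalComplex.cyclesMap_i, CategoryTheory.comp_apply,
    iCycles_liftCycles K j]
  exact (iCycles_liftCycles L j ⟨(φ.f j).hom x, map_mem_Z j φ x.2⟩).symm

theorem mono_homologyMap_iff (φ : K ⟶ L) :
    Mono (HomologicalComplex.homologyMap φ j) ↔
      ∀ y ∈ Z K j, (∃ w, (L.d (j + 1) j).hom w = (φ.f j).hom y) → ∃ w, (K.d (j + 1) j).hom w = y := by
  rw [ModuleCat.mono_iff_injective, injective_iff_map_eq_zero]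
  constructor
  · intro h y hy hy'
    exact (cls_eq_zero_iff K j ⟨y, hy⟩).mp
      (h _ ((cls_map j φ ⟨y, hy⟩).trans ((cls_eq_zero_iff L j _).mpr hy')))
  · intro h a ha
    obtain ⟨⟨y, hy⟩, rfl⟩ := cls_surjective K j a
    exact (cls_eq_zero_iff K j _).mpr
      (h y hy ((cls_eq_zero_iff L j _).mp ((cls_map j φ ⟨y, hy⟩).symm.trans ha)))

theorem epi_homologyMap_iff (φ : K ⟶ L) :
    Epi (HomologicalComplex.homologyMap φ j) ↔
      ∀ z ∈ Z L j, ∃ y ∈ Z K j, ∃ w, z = (φ.f j).hom y + (L.d (j + 1) j).hom w := by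
  rw [ModuleCat.epi_iff_surjective]
  constructor
  · intro h z hz
    obtain ⟨a, ha⟩ := h (cls L j ⟨z, hz⟩)
    obtain ⟨⟨y, hy⟩, rfl⟩ := cls_surjective K j a
    rw [cls_map, eq_comm, ← sub_eq_zero, ← map_sub, cls_eq_zero_iff] at ha
    obtain ⟨w, hw⟩ := ha
    exact ⟨y, hy, w, by rw [hw]; exact (add_sub_cancel _ _).symm⟩
  · intro h a
    obtain ⟨⟨z, hz⟩, rfl⟩ := cls_surjective L j a
    obtain ⟨y, hy, w, hw⟩ := h z hz
    refine ⟨cls K j ⟨y, hy⟩, ?_⟩
    rw [cls_map, eq_comm, ← sub_eq_zero, ← map_sub, cls_eq_zero_iff]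
    exact ⟨w, eq_sub_iff_add_eq'.mpr hw.symm⟩

theorem quasiIso_mono (φ : K ⟶ L) [QuasiIso φ] : Mono (HomologicalComplex.homologyMap φ j) := by
  have := (quasiIsoAt_iff_isIso_homologyMap φ j).mp inferInstance
  infer_instance

theorem quasiIso_epi (φ : K ⟶ L) [QuasiIso φ] : Epi (HomologicalComplex.homologyMap φ j) := by
  have := (quasiIsoAt_iff_isIso_homologyMap φ j).mp inferInstance
  infer_instance

end Groth.Agent.BiextLib
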