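import Groth.Agent.BiextLib.Homology
import Mathlib.Algebra.Module.Projective
import Mathlib.Algebra.Homology.Homotopy
import Mathlib.Algebra.Exact.Basic

/-! Injective quasi-isomorphisms with degreewise projective cokernel are split, uniquely up to homotopy. -/

universe v u

namespace Groth.Agent.BiextLib

open CategoryTheory

variable {R : Type u} [Ring R] {A' A Q : ChainComplex (ModuleCat.{v} R) ℕ}

theorem d_comm {K L : ChainComplex (ModuleCat.{v} R) ℕ} (φ : K ⟶ L) (i j : ℕ) (x : K.X i) :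
    (L.d i j).hom ((φ.f i).hom x) = (φ.f j).hom ((K.d i j).hom x) := by
  rw [← LinearMap.comp_apply, ← ModuleCat.hom_comp, φ.comm, ModuleCat.hom_comp, LinearMap.comp_apply]

theorem d_d (K : ChainComplex (ModuleCat.{v} R) ℕ) (i j k : ℕ) (x : K.X i) :
    (K.d j k).hom ((K.d i j).hom x) = 0 := by
  rw [← LinearMap.comp_apply, ← ModuleCat.hom_comp, K.d_comp_d]
  rfl

/-- The cokernel of an injective quasi-isomorphism is acyclic. -/
theorem acyclic_coker (f : A' ⟶ A) (p : A ⟶ Q) (hf : ∀ q, Function.Injective (f.f q).hom)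
    (hp : ∀ q, Function.Surjective (p.f q).hom) (hfp : ∀ q, Function.Exact (f.f q).hom (p.f q).hom) [QuasiIso f]
    (n : ℕ) (z : Q.X n) (hz : z ∈ Z Q n) : ∃ w, (Q.d (n + 1) n).hom w = z := by
  obtain ⟨a, rfl⟩ := hp n z
  have key : ∃ b, a - (f.f n).hom b ∈ Z A n := by
    cases n with
    | zero => exact ⟨0, mem_Z_zero _ _⟩
    | succ m =>
      rw [mem_Z_succ, d_comm] at hz
      obtain ⟨c, hc⟩ := (hfp m _).mp hz
      have hcZ : c ∈ Z A' m := by
        cases m with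
        | zero => exact mem_Z_zero _ _
        | succ l =>
          rw [mem_Z_succ]
          apply hf l
          rw [← d_comm, hc, d_d, map_zero]
      obtain ⟨b, hb⟩ := (mono_homologyMap_iff m f).mp (quasiIso_mono m f) c hcZ ⟨a, hc.symm⟩
      refine ⟨b, ?_⟩
      rw [mem_Z_succ, map_sub, d_comm, hb, hc, sub_self]
  obtain ⟨b, hb⟩ := key
  obtain ⟨y, -, w, hw⟩ := (epi_homologyMap_iff n f).mp (quasiIso_epi n f) _ hb
  refine ⟨(p.f (n + 1)).hom w, ?_⟩
  have := congrArg (p.f n).hom hw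
  rw [map_sub, map_add, (hfp n).apply_apply_eq_zero, (hfp n).apply_apply_eq_zero, sub_zero, zero_add] at this
  rw [d_comm, this]

/-- An acyclic complex of projectives has a contraction. -/
theorem exists_contraction [∀ q, Module.Projective R (Q.X q)]
    (hQ : ∀ (n : ℕ) (z : Q.X n), z ∈ Z Q n → ∃ w, (Q.d (n + 1) n).hom w = z) :
    ∃ s : ∀ n, Q.X n →ₗ[R] Q.X (n + 1),
      (∀ x, (Q.d 1 0).hom (s 0 x) = x) ∧
      ∀ n x, (Q.d (n + 2) (n + 1)).hom (s (n + 1) x) = x - s n ((Q.d (n + 1) n).hom x) := by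
  let P : ∀ n, (Q.X n →ₗ[R] Q.X (n + 1)) → Prop := fun n s =>
    ∀ x, (Q.d (n + 1) n).hom (s ((Q.d (n + 1) n).hom x)) = (Q.d (n + 1) n).hom x
  have hlift : ∀ n (e : Q.X n →ₗ[R] Q.X n), (∀ x, e x ∈ Z Q n) →
      ∃ s : Q.X n →ₗ[R] Q.X (n + 1), ∀ x, (Q.d (n + 1) n).hom (s x) = e x := by
    intro n e he
    obtain ⟨s, hs⟩ := Module.projective_lifting_property ((Q.d (n + 1) n).hom.codRestrict (Z Q n) (d_mem_Z Q n))
      (e.codRestrict (Z Q n) he) fun ⟨z, hz⟩ => (hQ n z hz).imp fun w hw => Subtype.ext hw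
    exact ⟨s, fun x => congrArg Subtype.val (LinearMap.congr_fun hs x)⟩
  obtain ⟨s₀, hs₀⟩ := hlift 0 LinearMap.id fun x => mem_Z_zero Q x
  have hstep : ∀ n (s : {s // P n s}), ∃ s' : Q.X (n + 1) →ₗ[R] Q.X (n + 2),
      ∀ x, (Q.d (n + 2) (n + 1)).hom (s' x) = x - s.1 ((Q.d (n + 1) n).hom x) := fun n s =>
    hlift (n + 1) (LinearMap.id - s.1 ∘ₗ (Q.d (n + 1) n).hom) fun x => by
      rw [mem_Z_succ, LinearMap.sub_apply, LinearMap.comp_apply, LinearMap.id_apply, map_sub, s.2, sub_self]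
  let s : ∀ n, {s // P n s} := fun n => Nat.rec (motive := fun n => {s // P n s}) ⟨s₀, fun x => hs₀ _⟩
    (fun n prev => ⟨(hstep n prev).choose, fun x => by
      rw [(hstep n prev).choose_spec, d_d, map_zero, sub_zero]⟩) n
  exact ⟨fun n => (s n).1, hs₀, fun n => (hstep n (s n)).choose_spec⟩

variable (f : A' ⟶ A) (p : A ⟶ Q) [∀ q, Module.Projective R (Q.X q)]

theorem exists_section (hf : ∀ q, Function.Injective (f.f q).hom)
    (hp : ∀ q, Function.Surjective (p.f q).hom) (hfp : ∀ q, Function.Exact (f.f q).hom (p.f q).hom) [QuasiIso f] :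
    ∃ h : Q ⟶ A, ∀ q x, (p.f q).hom ((h.f q).hom x) = x := by
  obtain ⟨s, hs0, hs⟩ := exists_contraction (acyclic_coker f p hf hp hfp)
  have : ∀ q, ∃ σ : Q.X q →ₗ[R] A.X q, ∀ x, (p.f q).hom (σ x) = x := fun q => by
    obtain ⟨σ, hσ⟩ := Module.projective_lifting_property (p.f q).hom LinearMap.id (hp q)
    exact ⟨σ, LinearMap.congr_fun hσ⟩
  choose σ hσ using this
  let h : ∀ n, Q.X n →ₗ[R] A.X n := fun n => match n with
    | 0 => (A.d 1 0).hom ∘ₗ σ 1 ∘ₗ s 0
    | n + 1 => (A.d (n + 2) (n + 1)).hom ∘ₗ σ (n + 2) ∘ₗ s (n + 1) + σ (n + 1) ∘ₗ s n ∘ₗ (Q.d (n + 1) n).hom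
  refine ⟨{ f := fun n => ModuleCat.ofHom (h n), comm' := fun i j hij => ?_ }, fun q x => ?_⟩
  · obtain rfl : j + 1 = i := hij
    refine ModuleCat.hom_ext (LinearMap.ext fun x => ?_)
    cases j with
    | zero => simp [h, d_d]
    | succ n => simp [h, d_d]
  · cases q with
    | zero => simp [h, ← d_comm, hσ, hs0]
    | succ n => simp [h, ← d_comm, hσ, hs]

theorem exists_retraction (hf : ∀ q, Function.Injective (f.f q).hom)
    (hp : ∀ q, Function.Surjective (p.f q).hom) (hfp : ∀ q, Function.Exact (f.f q).hom (p.f q).hom) [QuasiIso f] :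
    ∃ g : A ⟶ A', f ≫ g = 𝟙 A' := by
  obtain ⟨h, hh⟩ := exists_section f p hf hp hfp
  have : ∀ q, ∀ x, (x - (h.f q).hom ((p.f q).hom x)) ∈ LinearMap.range (f.f q).hom := fun q x => by
    refine (hfp q _).mp ?_
    rw [map_sub, hh, sub_self]
  let g : ∀ q, A.X q →ₗ[R] A'.X q := fun q =>
    (LinearEquiv.ofInjective (f.f q).hom (hf q)).symm.toLinearMap ∘ₗ
      (LinearMap.id - (h.f q).hom ∘ₗ (p.f q).hom).codRestrict (LinearMap.range (f.f q).hom) (this q)
  have hg : ∀ q x, (f.f q).hom (g q x) = x - (h.f q).hom ((p.f q).hom x) := fun q x => by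
    simp [g, ← LinearEquiv.ofInjective_apply (h := hf q)]
  refine ⟨{ f := fun q => ModuleCat.ofHom (g q), comm' := fun i j _ => ?_ }, ?_⟩
  · refine ModuleCat.hom_ext (LinearMap.ext fun x => hf j ?_)
    simp [← d_comm, hg]
  · ext q x
    apply hf q
    simp [hg, (hfp q).apply_apply_eq_zero]

theorem exists_homotopy_data (hf : ∀ q, Function.Injective (f.f q).hom)
    (hp : ∀ q, Function.Surjective (p.f q).hom) (hfp : ∀ q, Function.Exact (f.f q).hom (p.f q).hom) [QuasiIso f]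
    (g₁ g₂ : A ⟶ A') (h₁ : f ≫ g₁ = 𝟙 A') (h₂ : f ≫ g₂ = 𝟙 A') :
    ∃ H : ∀ n, A.X n →ₗ[R] A'.X (n + 1), (∀ n y, H n ((f.f n).hom y) = 0) ∧
      (∀ x, (g₁.f 0).hom x - (g₂.f 0).hom x = (A'.d 1 0).hom (H 0 x)) ∧
      ∀ n x, (g₁.f (n + 1)).hom x - (g₂.f (n + 1)).hom x =
        (A'.d (n + 2) (n + 1)).hom (H (n + 1) x) + H n ((A.d (n + 1) n).hom x) := by
  obtain ⟨s, hs0, hs⟩ := exists_contraction (acyclic_coker f p hf hp hfp)
  have : ∀ q, ∃ k : Q.X q →ₗ[R] A'.X q, ∀ x, k ((p.f q).hom x) = (g₁.f q).hom x - (g₂.f q).hom x := fun q => by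
    have hker : LinearMap.ker (p.f q).hom ≤ LinearMap.ker ((g₁.f q).hom - (g₂.f q).hom) := by
      intro x hx
      obtain ⟨y, rfl⟩ := (hfp q x).mp hx
      have e1 : (g₁.f q).hom ((f.f q).hom y) = y := by
        rw [← LinearMap.comp_apply, ← ModuleCat.hom_comp, ← HomologicalComplex.comp_f, h₁]; rfl
      have e2 : (g₂.f q).hom ((f.f q).hom y) = y := by
        rw [← LinearMap.comp_apply, ← ModuleCat.hom_comp, ← HomologicalComplex.comp_f, h₂]; rfl
      simp [e1, e2]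
    refine ⟨(LinearMap.ker (p.f q).hom).liftQ _ hker ∘ₗ
      ((p.f q).hom.quotKerEquivOfSurjective (hp q)).symm.toLinearMap, fun x => ?_⟩
    simp
  choose k hk using this
  have hkd : ∀ i j x, (A'.d i j).hom (k i x) = k j ((Q.d i j).hom x) := fun i j x => by
    obtain ⟨a, rfl⟩ := hp i x
    rw [hk, d_comm, hk, map_sub, d_comm, d_comm]
  refine ⟨fun n => k (n + 1) ∘ₗ s n ∘ₗ (p.f n).hom, fun n y => ?_, fun x => ?_, fun n x => ?_⟩
  · simp [(hfp n).apply_apply_eq_zero]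
  · simp [hkd, hs0, hk]
  · simp only [LinearMap.comp_apply, hkd, hs, map_sub, hk, ← d_comm]
    abel

/-- The cokernel complex. -/
noncomputable def coker (f : A' ⟶ A) : ChainComplex (ModuleCat.{v} R) ℕ where
  X q := ModuleCat.of R (A.X q ⧸ LinearMap.range (f.f q).hom)
  d i j := ModuleCat.ofHom ((LinearMap.range (f.f i).hom).mapQ _ (A.d i j).hom (by
    rintro _ ⟨y, rfl⟩; exact ⟨(A'.d i j).hom y, (d_comm f i j y).symm⟩))
  shape i j h := ModuleCat.hom_ext (Submodule.linearMap_qext _ (LinearMap.ext fun x => by simp [A.shape i j h]))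
  d_comp_d' i j l _ _ := ModuleCat.hom_ext (Submodule.linearMap_qext _ (LinearMap.ext fun x => by simp [d_d]))

/-- The projection to the cokernel complex. -/
noncomputable def cokerπ (f : A' ⟶ A) : A ⟶ coker f where
  f q := ModuleCat.ofHom (LinearMap.range (f.f q).hom).mkQ
  comm' _ _ _ := rfl

theorem cokerπ_surjective (f : A' ⟶ A) (q : ℕ) : Function.Surjective ((cokerπ f).f q).hom :=
  Submodule.mkQ_surjective _

theorem cokerπ_exact (f : A' ⟶ A) (q : ℕ) : Function.Exact (f.f q).hom ((cokerπ f).f q).hom :=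
  LinearMap.exact_map_mkQ_range _

/-- A homotopy from its data. -/
theorem exists_homotopy_of_data (g₁ g₂ : A ⟶ A') (H : ∀ n, A.X n →ₗ[R] A'.X (n + 1))
    (hH : ∀ n y, H n ((f.f n).hom y) = 0)
    (h0 : ∀ x, (g₁.f 0).hom x - (g₂.f 0).hom x = (A'.d 1 0).hom (H 0 x))
    (hs : ∀ n x, (g₁.f (n + 1)).hom x - (g₂.f (n + 1)).hom x =
        (A'.d (n + 2) (n + 1)).hom (H (n + 1) x) + H n ((A.d (n + 1) n).hom x)) :
    ∃ Ho : Homotopy g₁ g₂, ∀ i j : ℕ, f.f i ≫ Ho.hom i j = 0 := by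
  let hm : ∀ i j, A.X i ⟶ A'.X j := fun i j =>
    if h : i + 1 = j then ModuleCat.ofHom (H i) ≫ eqToHom (congrArg A'.X h) else 0
  refine ⟨{ hom := hm, zero := fun i j hij => dif_neg hij, comm := fun i => ?_ }, fun i j => ?_⟩
  · rw [Homotopy.prevD_chainComplex]
    refine ModuleCat.hom_ext (LinearMap.ext fun x => ?_)
    cases i with
    | zero =>
      rw [Homotopy.dNext_zero_chainComplex]
      simp [hm, ← h0 x]
    | succ n =>
      rw [Homotopy.dNext_succ_chainComplex]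
      have := hs n x
      simp [hm]
      rw [sub_eq_iff_eq_add.mp this]
      abel
  · simp only [hm]
    split_ifs with h
    · subst h
      refine ModuleCat.hom_ext (LinearMap.ext fun y => ?_)
      simp [hH]
    · exact Limits.comp_zero

end Groth.Agent.BiextLib
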