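import Groth.Agent.BiextLib.Split
import Mathlib.Algebra.Homology.Monoidal
import Mathlib.Algebra.Category.ModuleCat.Monoidal.Basic
import Mathlib.RingTheory.Flat.Basic

/-! Low degrees of tensor products of chain complexes of modules. -/

universe v

namespace Groth.Agent.BiextLib

open CategoryTheory MonoidalCategory TensorProduct HomologicalComplex

variable {R : Type v} [CommRing R] (C K : ChainComplex (ModuleCat.{v} R) ℕ)

/-- The inclusion of a summand, as a linear map. -/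
noncomputable def ιT (i j n : ℕ) (h : i + j = n) : (C.X i) ⊗[R] (K.X j) →ₗ[R] ((C ⊗ K).X n) :=
  (ιTensorObj C K i j n h).hom

theorem span_ιT (n : ℕ) (S : Submodule R ((C ⊗ K).X n)) (hS : ∀ i j h t, ιT C K i j n h t ∈ S) (x : (C ⊗ K).X n) :
    x ∈ S := by
  have : ModuleCat.ofHom S.mkQ = 0 := mapBifunctor.hom_ext (fun i j h =>
    ModuleCat.hom_ext (LinearMap.ext fun t => by
      simp only [ModuleCat.hom_comp, LinearMap.comp_apply, ModuleCat.hom_ofHom]
      exact (Submodule.Quotient.mk_eq_zero S).mpr (hS i j h t)))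
  exact (Submodule.Quotient.mk_eq_zero S).mp (congrArg (fun g => g.hom x) this)

/-- Linear maps out of a degree of the tensor product. -/
noncomputable def descT {N : ModuleCat.{v} R} {n : ℕ} (f : ∀ i j, i + j = n → ((C.X i) ⊗[R] (K.X j) →ₗ[R] N)) :
    ((C ⊗ K).X n) →ₗ[R] N :=
  (mapBifunctorDesc (K₁ := C) (K₂ := K) (F := curriedTensor (ModuleCat.{v} R)) (c := ComplexShape.down ℕ) (j := n)
    (fun i j h => ModuleCat.ofHom (f i j h) : ∀ i j, _ → (C.X i ⊗ K.X j ⟶ N))).hom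

theorem descT_ιT {N : ModuleCat.{v} R} {n : ℕ} (f : ∀ i j, i + j = n → ((C.X i) ⊗[R] (K.X j) →ₗ[R] N)) (i j : ℕ)
    (h : i + j = n) (t) : descT C K f (ιT C K i j n h t) = f i j h t := by
  exact congrArg (fun g => g.hom t) (ι_mapBifunctorDesc (K₁ := C) (K₂ := K)
    (F := curriedTensor (ModuleCat.{v} R)) (c := ComplexShape.down ℕ) (j := n)
    (fun i j h => ModuleCat.ofHom (f i j h) : ∀ i j, _ → (C.X i ⊗ K.X j ⟶ N)) i j h)

theorem ιT_injective (i j n : ℕ) (h : i + j = n) : Function.Injective (ιT C K i j n h) := by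
  intro t t' e
  let f : ∀ i' j', i' + j' = n → ((C.X i') ⊗[R] (K.X j') →ₗ[R] (ModuleCat.of R ((C.X i) ⊗[R] (K.X j)))) :=
    fun i' j' h' => if hi : i' = i then by
      obtain rfl : i' = i := hi
      obtain rfl : j' = j := by omega
      exact LinearMap.id else 0
  have := congrArg (descT C K f) e
  rw [descT_ιT, descT_ιT] at this
  simpa [f] using this

/-- the two signs -/
noncomputable def sgn₁ (i j : ℕ) : ℤˣ :=
  ComplexShape.ε₁ (ComplexShape.down ℕ) (ComplexShape.down ℕ) (ComplexShape.down ℕ) (i, j)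

/-- the two signs -/
noncomputable def sgn₂ (i j : ℕ) : ℤˣ :=
  ComplexShape.ε₂ (ComplexShape.down ℕ) (ComplexShape.down ℕ) (ComplexShape.down ℕ) (i, j)

theorem d_ιT_left (i n : ℕ) (h : i + 1 + 0 = n + 1) (t) :
    ((C ⊗ K).d (n + 1) n).hom (ιT C K (i + 1) 0 (n + 1) h t) =
      sgn₁ (i + 1) 0 • ιT C K i 0 n (by omega) ((C.d (i + 1) i).hom.rTensor (K.X 0) t) := by
  have e : ιTensorObj C K (i + 1) 0 (n + 1) h ≫ (C ⊗ K).d (n + 1) n = _ :=
    (congrArg (ιTensorObj C K (i + 1) 0 (n + 1) h ≫ ·) (mapBifunctor.d_eq C K _ _ (n + 1) n)).trans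
      (by rw [Preadditive.comp_add, mapBifunctor.ι_D₁, mapBifunctor.ι_D₂,
        mapBifunctor.d₁_eq C K _ _ (show (ComplexShape.down ℕ).Rel (i + 1) i from rfl) 0 n (by simp; omega),
        mapBifunctor.d₂_eq_zero C K _ _ (i + 1) 0 n (by simp), add_zero])
  exact congrArg (fun g => g.hom t) e

theorem d_ιT_right (j n : ℕ) (h : 0 + (j + 1) = n + 1) (t) :
    ((C ⊗ K).d (n + 1) n).hom (ιT C K 0 (j + 1) (n + 1) h t) =
      sgn₂ 0 (j + 1) • ιT C K 0 j n (by omega) ((K.d (j + 1) j).hom.lTensor (C.X 0) t) := by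
  have e : ιTensorObj C K 0 (j + 1) (n + 1) h ≫ (C ⊗ K).d (n + 1) n = _ :=
    (congrArg (ιTensorObj C K 0 (j + 1) (n + 1) h ≫ ·) (mapBifunctor.d_eq C K _ _ (n + 1) n)).trans
      (by rw [Preadditive.comp_add, mapBifunctor.ι_D₁, mapBifunctor.ι_D₂,
        mapBifunctor.d₁_eq_zero C K _ _ 0 (j + 1) n (by simp),
        mapBifunctor.d₂_eq C K _ _ 0 (show (ComplexShape.down ℕ).Rel (j + 1) j from rfl) n (by simp; omega), zero_add])
  exact congrArg (fun g => g.hom t) e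

theorem d_ιT_both (i j n : ℕ) (h : i + 1 + (j + 1) = n + 1) (t) :
    ((C ⊗ K).d (n + 1) n).hom (ιT C K (i + 1) (j + 1) (n + 1) h t) =
      sgn₁ (i + 1) (j + 1) • ιT C K i (j + 1) n (by omega) ((C.d (i + 1) i).hom.rTensor (K.X (j + 1)) t) +
      sgn₂ (i + 1) (j + 1) • ιT C K (i + 1) j n (by omega) ((K.d (j + 1) j).hom.lTensor (C.X (i + 1)) t) := by
  have e : ιTensorObj C K (i + 1) (j + 1) (n + 1) h ≫ (C ⊗ K).d (n + 1) n = _ :=
    (congrArg (ιTensorObj C K (i + 1) (j + 1) (n + 1) h ≫ ·) (mapBifunctor.d_eq C K _ _ (n + 1) n)).trans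
      (by rw [Preadditive.comp_add, mapBifunctor.ι_D₁, mapBifunctor.ι_D₂,
        mapBifunctor.d₁_eq C K _ _ (show (ComplexShape.down ℕ).Rel (i + 1) i from rfl) (j + 1) n (by simp; omega),
        mapBifunctor.d₂_eq C K _ _ (i + 1) (show (ComplexShape.down ℕ).Rel (j + 1) j from rfl) n (by simp; omega)])
  exact congrArg (fun g => g.hom t) e

theorem map_ιT {L : ChainComplex (ModuleCat.{v} R) ℕ} (φ : K ⟶ L) (i j n : ℕ) (h : i + j = n) (t) :
    ((C ◁ φ).f n).hom (ιT C K i j n h t) = ιT C L i j n h ((φ.f j).hom.lTensor (C.X i) t) := by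
  have e : ιTensorObj C K i j n h ≫ (C ◁ φ).f n = (C.X i ◁ φ.f j) ≫ ιTensorObj C L i j n h := by
    refine (ι_mapBifunctorMap (𝟙 C) φ (curriedTensor (ModuleCat.{v} R)) (ComplexShape.down ℕ) i j n h).trans ?_
    simp
  exact congrArg (fun g => g.hom t) e

theorem exists_decomp_one (x : (C ⊗ K).X 1) :
    ∃ a b, x = ιT C K 1 0 1 rfl a + ιT C K 0 1 1 rfl b := by
  have := span_ιT C K 1 (LinearMap.range (ιT C K 1 0 1 rfl) ⊔ LinearMap.range (ιT C K 0 1 1 rfl))
    (fun i j h t => by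
      rcases i with _ | i
      · obtain rfl : j = 1 := by omega
        exact Submodule.mem_sup_right ⟨t, rfl⟩
      · obtain ⟨rfl, rfl⟩ : i = 0 ∧ j = 0 := by omega
        exact Submodule.mem_sup_left ⟨t, rfl⟩) x
  obtain ⟨_, ⟨a, rfl⟩, _, ⟨b, rfl⟩, rfl⟩ := Submodule.mem_sup.mp this
  exact ⟨a, b, rfl⟩

end Groth.Agent.BiextLib
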